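import Groth.Agent.S1969
import Groth.Agent.Lib.WeakEtale.OverField
import Mathlib.RingTheory.Valuation.LocalSubring
import Mathlib.FieldTheory.IntermediateField.Adjoin.Algebra
import Mathlib.RingTheory.Localization.Integral
import Mathlib.FieldTheory.IsAlgClosed.AlgebraicClosure

/-!
# Weakly étale extensions of valuation rings
-/

universe u

open TensorProduct IsLocalRing

noncomputable section

namespace GrothLib.WeakDim

/-- A weakly étale algebra over a ring with flat ideals has flat ideals. -/
theorem flat_ideal_of_weaklyEtale {C N : Type u} [CommRing C] [CommRing N] [Algebra C N] [Algebra.WeaklyEtale C N]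
    (h : ∀ I : Ideal C, I.FG → Module.Flat C I) (J : Ideal N) : Module.Flat N J := by
  haveI : Module.Flat C J := flat_submodule h (J.subtype.restrictScalars C) J.subtype_injective
  exact Groth.Agent.AbsFlat.flat_of_flat_lmul (Algebra.WeaklyEtale.flat_lmul' C N) J

theorem flat_ideal_valuationRing {A : Type u} [CommRing A] [IsDomain A] [ValuationRing A] (I : Ideal A) :
    Module.Flat A I := by
  haveI : IsBezout A := (ValuationRing.iff_local_bezout_domain.1 ‹_›).2
  rw [Module.Flat.flat_iff_torsion_eq_bot_of_isBezout, ← Submodule.isTorsionFree_iff_torsion_eq_bot]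
  infer_instance

theorem valuationRing_localization {N : Type u} [CommRing N] (h : ∀ J : Ideal N, Module.Flat N J)
    (P : Ideal N) [P.IsPrime] :
    ∃ _ : IsDomain (Localization.AtPrime P), ValuationRing (Localization.AtPrime P) :=
  have h2 : ∀ (p : Ideal N) [p.IsPrime],
      ∃ _ : IsDomain (Localization.AtPrime p), ValuationRing (Localization.AtPrime p) :=
    ((Groth.Agent.S1969.result N).out 0 3 rfl rfl).1 h
  h2 P

theorem associated_of_pow {R : Type u} [CommRing R] [IsDomain R] [ValuationRing R] {x y : R} {n : ℕ} (hn : n ≠ 0)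
    (h : Associated (x ^ n) (y ^ n)) : Associated x y := by
  rcases eq_or_ne x 0 with rfl | hx
  · rw [zero_pow hn, Associated.comm, associated_zero_iff_eq_zero, pow_eq_zero_iff hn] at h
    rw [h]
  rcases ValuationRing.dvd_total x y with ⟨c, rfl⟩ | ⟨c, rfl⟩
  · obtain ⟨v, hv⟩ := h
    rw [mul_pow] at hv
    have hc := mul_left_cancel₀ (pow_ne_zero n hx) hv
    exact associated_mul_unit_right x c ((isUnit_pow_iff hn).1 (hc ▸ v.isUnit))
  · obtain ⟨v, hv⟩ := h.symm
    rw [mul_pow] at hv
    have hy : y ≠ 0 := fun h0 => hx (by rw [h0, zero_mul])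
    have hc := mul_left_cancel₀ (pow_ne_zero n hy) hv
    exact (associated_mul_unit_right y c ((isUnit_pow_iff hn).1 (hc ▸ v.isUnit))).symm

set_option maxHeartbeats 1000000 in
-- the extension field is a subfield of an algebraic closure
/-- A totally ramified extension of a valuation ring by a root of an element whose value has order `n`. -/
theorem exists_ramified_extension (A K : Type u) [CommRing A] [IsDomain A] [ValuationRing A] [Field K] [Algebra A K]
    [IsFractionRing A K] (a : A) (ha : a ≠ 0) {n : ℕ} (hn : 2 ≤ n)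
    (hmin : ∀ k, 0 < k → k < n → ∀ p q : A, q ≠ 0 → ¬ Associated (a ^ k * q ^ n) (p ^ n)) :
    ∃ (R : Type u) (_ : CommRing R) (_ : Algebra A R) (π : R) (φ₀ : R →ₗ[A] A) (φ₁ : R →ₗ[A] K),
      (∀ I : Ideal R, Module.Flat R I) ∧ π ^ n = algebraMap A R a ∧ φ₀ 1 = 1 ∧ φ₁ 1 = 0 ∧
      (∀ r, φ₁ (r * π) = algebraMap A K (φ₀ r)) ∧
      (∀ r s, φ₀ (r * s) - φ₀ r * φ₀ s ∈ maximalIdeal A) ∧
      ∀ r (p q : A), q ≠ 0 → φ₁ r * algebraMap A K q = algebraMap A K p →
        ∃ e ∈ maximalIdeal A, a * p ^ n = e * q ^ n := by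
  classical
  let Ω := AlgebraicClosure K
  obtain ⟨V, hVA, hVm⟩ : ∃ V : ValuationSubring Ω, (∀ x : A, algebraMap A Ω x ∈ V) ∧
      ∀ x : A, x ∈ maximalIdeal A → V.valuation (algebraMap A Ω x) < 1 := by
    have hinj : Function.Injective (algebraMap A Ω) := by
      rw [IsScalarTower.algebraMap_eq A K Ω]
      exact (algebraMap K Ω).injective.comp (IsFractionRing.injective A K)
    let R₀ := (algebraMap A Ω).range
    haveI : IsLocalRing R₀ :=
      (RingEquiv.ofBijective _ ⟨fun x y h => hinj (congrArg Subtype.val h),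
        (algebraMap A Ω).rangeRestrict_surjective⟩ : A ≃+* R₀).isLocalRing
    obtain ⟨V, hV⟩ := LocalSubring.exists_le_valuationSubring ({ toSubring := R₀, isLocalRing := inferInstance } : LocalSubring Ω)
    obtain ⟨hle, hloc⟩ := hV
    refine ⟨V, fun x => hle ⟨x, rfl⟩, fun x hx => ?_⟩
    refine (V.valuation_lt_one_iff (⟨_, hle ⟨x, rfl⟩⟩ : V)).1 fun hu => ?_
    haveI := hloc
    have h1 : IsUnit ((algebraMap A Ω).rangeRestrict x) :=
      IsUnit.of_map (Subring.inclusion hle) _ hu
    let e : A ≃+* R₀ := RingEquiv.ofBijective _ ⟨fun x y h => hinj (congrArg Subtype.val h),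
      (algebraMap A Ω).rangeRestrict_surjective⟩
    have h2 := h1.map e.symm
    rw [show (algebraMap A Ω).rangeRestrict x = e x from rfl, e.symm_apply_apply] at h2
    exact hx h2
  let v := V.valuation
  have hunit : ∀ x : A, IsUnit x → v (algebraMap A Ω x) = 1 := fun x hx => by
    have h := (V.valuation_eq_one_iff ⟨_, hVA x⟩).1 (hx.map ((algebraMap A Ω).codRestrict V.toSubring hVA))
    exact h
  -- values of the base
  have hA : ∀ c : K, v (algebraMap K Ω c) ≤ 1 → ∃ x : A, algebraMap A K x = c := by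
    intro c hc
    rcases (ValuationRing.iff_isInteger_or_isInteger A K).1 ‹_› c with ⟨x, hx⟩ | ⟨x, hx⟩
    · exact ⟨x, hx⟩
    · by_cases hu : IsUnit x
      · obtain ⟨w, rfl⟩ := hu
        exact ⟨((w⁻¹ : Aˣ) : A), by rw [map_units_inv, hx, inv_inv]⟩
      · rcases eq_or_ne c 0 with rfl | hc0
        · exact ⟨0, map_zero _⟩
        have h1 : v (algebraMap A Ω x) < 1 := hVm x hu
        rw [IsScalarTower.algebraMap_apply A K Ω, hx, map_inv₀, map_inv₀] at h1
        have h0 : 0 < v (algebraMap K Ω c) := zero_lt_iff.2 ((v.ne_zero_iff).2 (by simpa using hc0))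
        exact absurd hc (not_le.2 ((inv_lt_one₀ h0).1 h1))
  obtain ⟨π, hπ⟩ := IsAlgClosed.exists_pow_nat_eq (algebraMap A Ω a) (by omega : 0 < n)
  have hπ0 : π ≠ 0 := fun h => by
    rw [h, zero_pow (by omega)] at hπ
    rw [IsScalarTower.algebraMap_apply A K Ω] at hπ
    exact ha (IsFractionRing.injective A K (((algebraMap K Ω).injective (hπ.symm.trans (map_zero _).symm)).trans
      (map_zero _).symm))
  -- powers of the root have distinct classes of values
  have hdist : ∀ (c d : K) (i j : Fin n), c ≠ 0 → d ≠ 0 →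
      v (algebraMap K Ω c * π ^ (i : ℕ)) = v (algebraMap K Ω d * π ^ (j : ℕ)) → i = j := by
    have key : ∀ (c : K) (k : ℕ), 0 < k → k < n → v (π ^ k) ≠ v (algebraMap K Ω c) := by
      intro c k hk0 hkn h
      obtain ⟨⟨p, q⟩, hpq⟩ := IsLocalization.surj (nonZeroDivisors A) c
      have hq : (q : A) ≠ 0 := nonZeroDivisors.ne_zero q.2
      have h1 : v (algebraMap A Ω (a ^ k * (q : A) ^ n)) = v (algebraMap A Ω (p ^ n)) := by
        rw [map_mul, map_pow, map_pow, map_pow, ← hπ, ← pow_mul, mul_comm n k, pow_mul, ← mul_pow, map_pow,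
          map_pow, IsScalarTower.algebraMap_apply A K Ω p, ← hpq, map_mul, map_mul,
          ← IsScalarTower.algebraMap_apply, h, map_mul]
      refine hmin k hk0 hkn p q hq ?_
      rcases ValuationRing.dvd_total (a ^ k * (q : A) ^ n) (p ^ n) with ⟨e, he⟩ | ⟨e, he⟩
      · by_cases hu : IsUnit e
        · exact he ▸ associated_mul_unit_right _ e hu
        · exfalso
          have hne : v (algebraMap A Ω (a ^ k * (q : A) ^ n)) ≠ 0 := v.ne_zero_iff.2 (by
            rw [IsScalarTower.algebraMap_apply A K Ω]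
            simpa using mul_ne_zero (pow_ne_zero k ha) (pow_ne_zero n hq))
          have h2 := hVm e hu
          rw [he, map_mul (algebraMap A Ω) _ e, map_mul v _ (algebraMap A Ω e)] at h1
          exact h2.ne ((mul_eq_left₀ hne).1 h1.symm)
      · by_cases hu : IsUnit e
        · exact he ▸ (associated_mul_unit_right _ e hu).symm
        · exfalso
          have hne : v (algebraMap A Ω (p ^ n)) ≠ 0 := fun h0 => by
            rw [h0] at h1
            refine (v.ne_zero_iff.2 ?_) h1
            rw [IsScalarTower.algebraMap_apply A K Ω]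
            simpa using mul_ne_zero (pow_ne_zero k ha) (pow_ne_zero n hq)
          have h2 := hVm e hu
          rw [he, map_mul (algebraMap A Ω) _ e, map_mul v _ (algebraMap A Ω e)] at h1
          exact h2.ne ((mul_eq_left₀ hne).1 h1)
    intro c d i j hc hd h
    by_contra hij
    rcases lt_or_gt_of_ne (fun h' => hij (Fin.ext h') : (i : ℕ) ≠ j) with hlt | hlt
    · refine key (c / d) ((j : ℕ) - i) (by omega) (by omega) ?_
      rw [map_div₀, map_div₀, eq_div_iff (v.ne_zero_iff.2 (by simpa using hd))]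
      have h' := h
      rw [← Nat.sub_add_cancel hlt.le, pow_add, map_mul, map_mul, map_mul] at h'
      rw [mul_comm]
      exact mul_right_cancel₀ (v.ne_zero_iff.2 (pow_ne_zero _ hπ0)) (by rw [mul_assoc]; exact h'.symm)
    · refine key (d / c) ((i : ℕ) - j) (by omega) (by omega) ?_
      rw [map_div₀, map_div₀, eq_div_iff (v.ne_zero_iff.2 (by simpa using hc))]
      have h' := h.symm
      rw [← Nat.sub_add_cancel hlt.le, pow_add, map_mul, map_mul, map_mul] at h'
      rw [mul_comm]
      exact mul_right_cancel₀ (v.ne_zero_iff.2 (pow_ne_zero _ hπ0)) (by rw [mul_assoc]; exact h'.symm)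
  have hterm : ∀ (c : Fin n → K) (i : Fin n),
      v (algebraMap K Ω (c i) * π ^ (i : ℕ)) ≤ v (∑ j, algebraMap K Ω (c j) * π ^ (j : ℕ)) := by
    intro c i
    obtain ⟨j, -, hj⟩ := Finset.exists_max_image (Finset.univ : Finset (Fin n))
      (fun j => v (algebraMap K Ω (c j) * π ^ (j : ℕ))) ⟨i, Finset.mem_univ i⟩
    rcases eq_or_ne (c j) 0 with h0 | h0
    · refine le_trans (hj i (Finset.mem_univ i)) ?_
      rw [h0, map_zero, zero_mul, map_zero]
      exact zero_le
    rw [v.map_sum_eq_of_lt (Finset.mem_univ j) fun l hl => lt_of_le_of_ne (hj l (Finset.mem_univ l)) fun heq => ?_]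
    · exact hj i (Finset.mem_univ i)
    · have hlj : l ≠ j := by simpa using hl
      rcases eq_or_ne (c l) 0 with hl0 | hl0
      · rw [hl0, map_zero, zero_mul, map_zero, eq_comm, v.zero_iff] at heq
        exact mul_ne_zero (by simpa using h0) (pow_ne_zero _ hπ0) heq
      · exact hlj (hdist _ _ _ _ hl0 h0 heq)
  -- the field generated by the root
  let K' := IntermediateField.adjoin K {π}
  let π' : K' := ⟨π, IntermediateField.mem_adjoin_simple_self K π⟩
  have hπ' : π' ^ n = algebraMap A K' a := Subtype.ext hπ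
  let Φ : (Fin n → K) →ₗ[K] K' :=
    ∑ i : Fin n, (LinearMap.proj i : (Fin n → K) →ₗ[K] K).smulRight (π' ^ (i : ℕ))
  have hΦ : ∀ c, (Φ c : Ω) = ∑ j, algebraMap K Ω (c j) * π ^ (j : ℕ) := fun c => by
    simp [Φ, π', Algebra.smul_def]
  have hΦinj : Function.Injective Φ := by
    refine (injective_iff_map_eq_zero _).2 fun c hc => funext fun i => ?_
    have h := hterm c i
    rw [← hΦ, hc, ZeroMemClass.coe_zero, map_zero, le_zero_iff, v.zero_iff] at h
    simpa using (mul_eq_zero.1 h).resolve_right (pow_ne_zero _ hπ0)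
  have hΦsurj : Function.Surjective Φ := by
    intro x
    have hint : IsIntegral K π := Algebra.IsIntegral.isIntegral π
    have hx : (x : Ω) ∈ (IntermediateField.adjoin K {π}).toSubalgebra := x.2
    rw [IntermediateField.adjoin_simple_toSubalgebra_of_isAlgebraic hint.isAlgebraic,
      Algebra.adjoin_singleton_eq_range_aeval] at hx
    obtain ⟨P, hP⟩ := hx
    let g := Polynomial.X ^ n - Polynomial.C (algebraMap A K a)
    have hgm : g.Monic := Polynomial.monic_X_pow_sub_C _ (by omega)
    have hdeg : (P %ₘ g).natDegree < n := by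
      have h := Polynomial.natDegree_modByMonic_lt P hgm (fun h => by
        have := congrArg Polynomial.natDegree h
        simp [g, Polynomial.natDegree_X_pow_sub_C] at this
        omega)
      simpa [g, Polynomial.natDegree_X_pow_sub_C] using h
    refine ⟨fun i => (P %ₘ g).coeff i, Subtype.ext ?_⟩
    rw [hΦ, ← hP]
    show _ = Polynomial.aeval π P
    rw [← Polynomial.aeval_modByMonic_eq_self_of_root (p := P) (q := g) (x := π) (by
      simp [g, hπ, ← IsScalarTower.algebraMap_apply]), Polynomial.aeval_eq_sum_range' hdeg,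
      Finset.sum_range]
    exact Finset.sum_congr rfl fun i _ => (Algebra.smul_def _ _).symm
  let E := LinearEquiv.ofBijective Φ ⟨hΦinj, hΦsurj⟩
  -- the valuation ring
  let W : ValuationSubring K' := V.comap K'.val.toRingHom
  let f : A →+* W := (algebraMap A K').codRestrict W.toSubring fun x => show algebraMap A Ω x ∈ V from hVA x
  letI : Algebra A W := f.toAlgebra
  let incl : W →ₐ[A] K' := { W.subtype with commutes' := fun _ => rfl }
  have hπW : π' ∈ W := by
    show π ∈ V
    rw [← V.valuation_le_one_iff]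
    refine (pow_le_one_iff (by omega : n ≠ 0)).1 ?_
    rw [← map_pow, hπ]
    exact (V.valuation_le_one_iff _).2 (hVA a)
  have hW : ∀ r : W, v ((incl r : K') : Ω) ≤ 1 := fun r => (V.valuation_le_one_iff _).2 r.2
  let i0 : Fin n := ⟨0, by omega⟩
  let i1 : Fin n := ⟨1, by omega⟩
  let ψ₁ : K' →ₗ[K] K := (LinearMap.proj i1 : (Fin n → K) →ₗ[K] K) ∘ₗ E.symm.toLinearMap
  let ψ₀ : K' →ₗ[K] K := (LinearMap.proj i0 : (Fin n → K) →ₗ[K] K) ∘ₗ E.symm.toLinearMap
  have hval : ∀ (x : K') (i : Fin n), v (algebraMap K Ω (E.symm x i) * π ^ (i : ℕ)) ≤ v (x : Ω) := fun x i => by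
    refine le_trans (hterm (E.symm x) i) (le_of_eq ?_)
    rw [← hΦ]
    exact congrArg (fun y : K' => v (y : Ω)) (E.apply_symm_apply x)
  have hmem₀ : ∀ r : W, ∃ x : A, algebraMap A K x = ψ₀ (incl r) := fun r => hA _ (by
    have h := hval (incl r) i0
    simp only [i0, pow_zero, mul_one] at h
    exact h.trans (hW r))
  choose φ hφ using hmem₀
  let φ₀ : W →ₗ[A] A :=
    { toFun := φ
      map_add' := fun r s => IsFractionRing.injective A K (by rw [map_add, hφ, hφ, hφ, map_add, map_add])
      map_smul' := fun c r => IsFractionRing.injective A K (by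
        rw [RingHom.id_apply, smul_eq_mul, map_mul, hφ, hφ, map_smul, LinearMap.map_smul_of_tower,
          Algebra.smul_def]) }
  let φ₁ : W →ₗ[A] K := (ψ₁.restrictScalars A) ∘ₗ incl.toLinearMap
  have hE1 : E.symm 1 = Pi.single i0 1 := by
    rw [LinearEquiv.symm_apply_eq]
    refine Subtype.ext ?_
    show (1 : Ω) = (Φ (Pi.single i0 1) : Ω)
    rw [hΦ, Finset.sum_eq_single i0 (fun j _ hj => by simp [Pi.single_eq_of_ne hj]) (fun h => absurd (Finset.mem_univ _) h)]
    simp [i0]
  have hshift : ∀ x : K', ψ₁ (x * π') = ψ₀ x := by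
    intro x
    have h : ψ₁ ∘ₗ LinearMap.mulRight K π' ∘ₗ E.toLinearMap = ψ₀ ∘ₗ E.toLinearMap := by
      refine LinearMap.pi_ext' fun i => LinearMap.ext_ring ?_
      simp only [LinearMap.comp_apply, LinearMap.single_apply, LinearEquiv.coe_coe, LinearMap.mulRight_apply,
        ψ₀, LinearEquiv.symm_apply_apply, LinearMap.proj_apply]
      show ψ₁ (Φ (Pi.single i 1) * π') = _
      by_cases hi : (i : ℕ) + 1 < n
      · rw [show Φ (Pi.single i 1) * π' = E (Pi.single (⟨i + 1, hi⟩ : Fin n) 1) from Subtype.ext (by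
          show (Φ (Pi.single i 1) : Ω) * π = (Φ (Pi.single (⟨i + 1, hi⟩ : Fin n) 1) : Ω)
          rw [hΦ, hΦ, Finset.sum_eq_single i (fun j _ hj => by simp [Pi.single_eq_of_ne hj])
              (fun h => absurd (Finset.mem_univ _) h),
            Finset.sum_eq_single (⟨i + 1, hi⟩ : Fin n) (fun j _ hj => by simp [Pi.single_eq_of_ne hj])
              (fun h => absurd (Finset.mem_univ _) h)]
          simp [pow_succ])]
        simp only [ψ₁, LinearMap.comp_apply, LinearEquiv.coe_coe, LinearEquiv.symm_apply_apply, LinearMap.proj_apply]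
        by_cases h0 : i = i0
        · subst h0
          simp [i0, i1]
        · rw [Pi.single_eq_of_ne (Ne.symm h0), Pi.single_eq_of_ne]
          intro h1
          exact h0 (Fin.ext (by have := congrArg Fin.val h1; simp [i0, i1] at this ⊢; omega))
      · have hin : (i : ℕ) + 1 = n := by omega
        rw [show Φ (Pi.single i 1) * π' = E (Pi.single i0 (algebraMap A K a)) from Subtype.ext (by
          show (Φ (Pi.single i 1) : Ω) * π = (Φ (Pi.single i0 (algebraMap A K a)) : Ω)
          rw [hΦ, hΦ, Finset.sum_eq_single i (fun j _ hj => by simp [Pi.single_eq_of_ne hj])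
              (fun h => absurd (Finset.mem_univ _) h),
            Finset.sum_eq_single i0 (fun j _ hj => by simp [Pi.single_eq_of_ne hj])
              (fun h => absurd (Finset.mem_univ _) h)]
          simp [i0, ← pow_succ, hin, hπ, ← IsScalarTower.algebraMap_apply])]
        simp only [ψ₁, LinearMap.comp_apply, LinearEquiv.coe_coe, LinearEquiv.symm_apply_apply, LinearMap.proj_apply]
        rw [Pi.single_eq_of_ne (by intro h; have := congrArg Fin.val h; simp [i0, i1] at this),
          Pi.single_eq_of_ne (by intro h; have := congrArg Fin.val h; simp [i0] at this; omega)]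
    have h2 := LinearMap.congr_fun h (E.symm x)
    simpa using h2
  have hres : ∀ r : W, v (((incl r : K') : Ω) - algebraMap A Ω (φ r)) < 1 := by
    intro r
    have hsum : ((incl r : K') : Ω) = ∑ j, algebraMap K Ω (E.symm (incl r) j) * π ^ (j : ℕ) := by
      rw [← hΦ]; exact (congrArg Subtype.val (E.apply_symm_apply (incl r))).symm
    rw [hsum, ← Finset.sum_erase_add _ _ (Finset.mem_univ i0), IsScalarTower.algebraMap_apply A K Ω, hφ]
    simp only [ψ₀, LinearMap.comp_apply, LinearEquiv.coe_coe, LinearMap.proj_apply, i0, pow_zero, mul_one,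
      add_sub_cancel_right]
    refine v.map_sum_lt one_ne_zero fun j hj => ?_
    refine lt_of_le_of_ne (le_trans (hval (incl r) j) (hW r)) fun heq => ?_
    have hc : E.symm (incl r) j ≠ 0 := fun h0 => by
      rw [h0, map_zero, zero_mul, map_zero] at heq
      exact zero_ne_one heq
    exact (Finset.mem_erase.1 hj).1 (hdist _ 1 j i0 hc one_ne_zero (by simpa [i0] using heq))
  refine ⟨W, inferInstance, inferInstance, ⟨π', hπW⟩, φ₀, φ₁, fun I => flat_ideal_valuationRing I,
    Subtype.ext hπ', IsFractionRing.injective A K ?_, ?_, fun r => ?_, fun r s => ?_, fun r p q hq hpq => ?_⟩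
  · show algebraMap A K (φ 1) = _
    rw [hφ, map_one incl, map_one (algebraMap A K)]
    show E.symm 1 i0 = 1
    rw [hE1, Pi.single_eq_same]
  · show E.symm (incl 1) i1 = 0
    rw [map_one, hE1, Pi.single_eq_of_ne]
    simp [i0, i1]
  · show ψ₁ (incl (r * ⟨π', hπW⟩)) = algebraMap A K (φ r)
    rw [map_mul, hφ]
    exact hshift _
  · by_contra hu
    show False
    have hu' : IsUnit (φ (r * s) - φ r * φ s) := not_not.1 hu
    have h1 := hunit _ hu'
    rw [map_sub, map_mul] at h1
    have hsub : algebraMap A Ω (φ (r * s)) - algebraMap A Ω (φ r) * algebraMap A Ω (φ s) =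
        (((incl r : K') : Ω) - algebraMap A Ω (φ r)) * ((incl s : K') : Ω) +
          algebraMap A Ω (φ r) * (((incl s : K') : Ω) - algebraMap A Ω (φ s)) -
          (((incl (r * s) : K') : Ω) - algebraMap A Ω (φ (r * s))) := by
      rw [map_mul]; push_cast; ring
    rw [hsub] at h1
    refine (lt_of_le_of_lt (v.map_sub _ _) (max_lt (lt_of_le_of_lt (v.map_add _ _) (max_lt ?_ ?_)) (hres _))).ne h1
    · rw [map_mul]
      exact mul_lt_one_of_nonneg_of_lt_one_left zero_le (hres r) (hW s)
    · rw [map_mul]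
      exact mul_lt_one_of_nonneg_of_lt_one_right ((V.valuation_le_one_iff _).2 (hVA _)) zero_le (hres s)
  · have hz : v (algebraMap K Ω (φ₁ r) * π) < 1 := by
      refine lt_of_le_of_ne (le_trans (by simpa [i1, φ₁, ψ₁] using hval (incl r) i1) (hW r)) fun heq => ?_
      have hc : φ₁ r ≠ 0 := fun h0 => by
        rw [h0, map_zero, zero_mul, map_zero] at heq
        exact zero_ne_one heq
      have := hdist (φ₁ r) 1 i1 i0 hc one_ne_zero (by simpa [i0, i1] using heq)
      simp [i0, i1] at this
    have hpow : v (algebraMap K Ω (φ₁ r ^ n * algebraMap A K a)) < 1 := by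
      rw [map_mul, ← IsScalarTower.algebraMap_apply, ← hπ, map_pow, ← mul_pow, map_pow]
      exact pow_lt_one₀ zero_le hz (by omega)
    obtain ⟨e, he⟩ := hA _ hpow.le
    refine ⟨e, fun hu => ?_, IsFractionRing.injective A K ?_⟩
    · rw [← he, ← IsScalarTower.algebraMap_apply, hunit e hu] at hpow
      exact lt_irrefl _ hpow
    · rw [map_mul, map_mul, map_pow, map_pow, ← hpq, he]
      ring

set_option maxHeartbeats 800000 in
-- localizations of tensor products
/-- The core of weak unramifiedness. -/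
theorem false_of_ramified {A K M : Type u} [CommRing A] [IsDomain A] [ValuationRing A] [Field K] [Algebra A K]
    [IsFractionRing A K] [CommRing M] [IsDomain M] [Algebra A M] [IsLocalRing M] [IsLocalHom (algebraMap A M)]
    [Algebra.WeaklyEtale A M] (hinj : Function.Injective (algebraMap A M)) {a : A} (ha : a ≠ 0) {n : ℕ} (hn : 2 ≤ n)
    (hmin : ∀ k, 0 < k → k < n → ∀ p q : A, q ≠ 0 → ¬ Associated (a ^ k * q ^ n) (p ^ n))
    {b : M} {u : Mˣ} (hb : b ^ n = algebraMap A M a * u) : False := by
  classical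
  obtain ⟨R, _, _, π, φ₀, φ₁, hR, hπ, h01, h11, hshift, hmul, hval⟩ :=
    exists_ramified_extension A K a ha hn hmin
  haveI : Algebra.WeaklyEtale R (R ⊗[A] M) := inferInstance
  have hN : ∀ J : Ideal (R ⊗[A] M), Module.Flat (R ⊗[A] M) J := flat_ideal_of_weaklyEtale fun I _ => hR I
  -- the residue homomorphism
  let κ := IsLocalRing.ResidueField M
  have hmk : ∀ x ∈ maximalIdeal A, algebraMap A κ x = 0 := fun x hx => by
    rw [IsScalarTower.algebraMap_apply A M κ]
    exact (residue_eq_zero_iff _).2 fun hu => hx (IsLocalHom.map_nonunit x hu)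
  let g : R →ₐ[A] κ :=
    { toFun := fun r => algebraMap A κ (φ₀ r)
      map_one' := by rw [h01, map_one]
      map_mul' := fun r s => by
        rw [← map_mul, ← sub_eq_zero, ← map_sub]
        exact hmk _ (hmul r s)
      map_zero' := by rw [map_zero, map_zero]
      map_add' := fun r s => by rw [map_add, map_add]
      commutes' := fun c => by
        rw [Algebra.algebraMap_eq_smul_one (A := R), map_smul, h01, smul_eq_mul, mul_one] }
  let ρ : R ⊗[A] M →ₐ[A] κ :=
    Algebra.TensorProduct.lift g (IsScalarTower.toAlgHom A M κ) fun _ _ => Commute.all _ _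
  let Ψ₀ : R ⊗[A] M →ₗ[A] M := (TensorProduct.lid A M).toLinearMap ∘ₗ φ₀.rTensor M
  let Ψ₁ : R ⊗[A] M →ₗ[A] K ⊗[A] M := φ₁.rTensor M
  have hρ : ∀ z, ρ z = algebraMap M κ (Ψ₀ z) := by
    intro z
    induction z with
    | zero => simp
    | tmul r m =>
      simp only [ρ, Ψ₀, Algebra.TensorProduct.lift_tmul, LinearMap.coe_comp, LinearEquiv.coe_coe,
        Function.comp_apply, LinearMap.rTensor_tmul, TensorProduct.lid_tmul]
      rw [Algebra.smul_def, map_mul, ← IsScalarTower.algebraMap_apply]
      rfl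
    | add x y hx hy => rw [map_add, map_add, map_add, hx, hy]
  let P : Ideal (R ⊗[A] M) := RingHom.ker ρ.toRingHom
  haveI : P.IsPrime := RingHom.ker_isPrime _
  obtain ⟨hdom, hvr⟩ := valuationRing_localization hN P
  haveI := hdom
  haveI := hvr
  let L := Localization.AtPrime P
  let x := algebraMap (R ⊗[A] M) L ((1 : R) ⊗ₜ[A] b)
  let y := algebraMap (R ⊗[A] M) L (π ⊗ₜ[A] (1 : M))
  have hxy : Associated (y ^ n) (x ^ n) := by
    refine ⟨(u.isUnit.map ((algebraMap (R ⊗[A] M) L).comp
      (Algebra.TensorProduct.includeRight : M →ₐ[A] R ⊗[A] M).toRingHom)).unit, ?_⟩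
    rw [IsUnit.unit_spec, ← map_pow, ← map_pow, RingHom.comp_apply, ← map_mul]
    congr 1
    show π ⊗ₜ[A] (1 : M) ^ n * ((1 : R) ⊗ₜ[A] (u : M)) = ((1 : R) ⊗ₜ[A] b) ^ n
    rw [Algebra.TensorProduct.tmul_pow, Algebra.TensorProduct.tmul_pow, Algebra.TensorProduct.tmul_mul_tmul,
      one_pow, one_pow, hπ, hb, mul_one, one_mul, Algebra.algebraMap_eq_smul_one, TensorProduct.smul_tmul,
      Algebra.smul_def]
  obtain ⟨w, hw⟩ := associated_of_pow (by omega) hxy
  obtain ⟨⟨z, s⟩, hzs⟩ := IsLocalization.surj P.primeCompl (w : L)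
  have hzP : z ∉ P := fun hz => by
    have h := (w.isUnit.mul (IsLocalization.map_units L s))
    rw [hzs] at h
    exact ((IsLocalization.AtPrime.isUnit_to_map_iff L P z).1 h) hz
  have heq : algebraMap (R ⊗[A] M) L (((1 : R) ⊗ₜ[A] b) * s) =
      algebraMap (R ⊗[A] M) L ((π ⊗ₜ[A] (1 : M)) * z) := by
    rw [map_mul, map_mul, ← hzs, ← mul_assoc]
    exact congrArg (· * algebraMap (R ⊗[A] M) L s) hw.symm
  obtain ⟨t, ht⟩ := (IsLocalization.eq_iff_exists P.primeCompl L).1 heq
  let s' : R ⊗[A] M := t * s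
  let z' : R ⊗[A] M := t * z
  have hz' : z' ∉ P := fun h => ((inferInstance : P.IsPrime).mem_or_mem h).elim t.2 hzP
  have hkey : ((1 : R) ⊗ₜ[A] b) * s' = z' * (π ⊗ₜ[A] (1 : M)) := by linear_combination ht
  have hΨb : ∀ r : R ⊗[A] M, Ψ₁ (((1 : R) ⊗ₜ[A] b) * r) = ((1 : K) ⊗ₜ[A] b) * Ψ₁ r := by
    intro r
    induction r with
    | zero => simp
    | tmul r m => simp [Ψ₁, Algebra.TensorProduct.tmul_mul_tmul]
    | add x y hx hy => simp only [mul_add, map_add, hx, hy]
  have hΨπ : ∀ r : R ⊗[A] M, Ψ₁ (r * (π ⊗ₜ[A] (1 : M))) = (1 : K) ⊗ₜ[A] Ψ₀ r := by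
    intro r
    induction r with
    | zero => simp
    | tmul r m =>
      rw [Algebra.TensorProduct.tmul_mul_tmul, mul_one]
      show φ₁ (r * π) ⊗ₜ[A] m = (1 : K) ⊗ₜ[A] (φ₀ r • m)
      rw [hshift, Algebra.algebraMap_eq_smul_one, TensorProduct.smul_tmul]
    | add x y hx hy => simp only [add_mul, map_add, TensorProduct.tmul_add, hx, hy]
  have hw0 : IsUnit (Ψ₀ z') := by
    by_contra hu
    refine hz' ?_
    rw [RingHom.mem_ker]
    show ρ z' = 0
    rw [hρ]
    exact (residue_eq_zero_iff _).2 hu
  have hβ : ∀ r : R ⊗[A] M, ∃ (m : M) (p q : A), q ≠ 0 ∧ (∃ e ∈ maximalIdeal A, a * p ^ n = e * q ^ n) ∧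
      Ψ₁ r * (algebraMap A K q ⊗ₜ[A] (1 : M)) = algebraMap A K p ⊗ₜ[A] m := by
    intro r
    induction r with
    | zero => exact ⟨0, 0, 1, one_ne_zero, ⟨0, zero_mem _, by rw [zero_pow (by omega)]; ring⟩, by simp⟩
    | tmul r m =>
      obtain ⟨⟨p, q⟩, hpq⟩ := IsLocalization.surj (nonZeroDivisors A) (φ₁ r)
      refine ⟨m, p, q, nonZeroDivisors.ne_zero q.2, hval r p q (nonZeroDivisors.ne_zero q.2) hpq, ?_⟩
      show φ₁ r ⊗ₜ[A] m * _ = _
      rw [Algebra.TensorProduct.tmul_mul_tmul, mul_one]
      exact congrArg (· ⊗ₜ[A] m) hpq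
    | add x y hx hy =>
      obtain ⟨m, p, q, hq, ⟨e, he, hpq⟩, hx⟩ := hx
      obtain ⟨m', p', q', hq', ⟨e', he', hpq'⟩, hy⟩ := hy
      have hxy : ∀ (c : A), Ψ₁ (x + y) * (algebraMap A K (q * q') ⊗ₜ[A] (1 : M)) =
          algebraMap A K (p * q') ⊗ₜ[A] m + algebraMap A K (p' * q) ⊗ₜ[A] m' := fun c => by
        have h1 := congrArg (· * (algebraMap A K q' ⊗ₜ[A] (1 : M))) hx
        have h2 := congrArg (· * (algebraMap A K q ⊗ₜ[A] (1 : M))) hy
        simp only [mul_assoc, Algebra.TensorProduct.tmul_mul_tmul, mul_one, ← map_mul] at h1 h2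
        rw [mul_comm q' q] at h2
        rw [map_add, add_mul, h1, h2]
      rcases ValuationRing.dvd_total (p * q') (p' * q) with ⟨c, hc⟩ | ⟨c, hc⟩
      · refine ⟨m + c • m', p * q', q * q', mul_ne_zero hq hq', ⟨e, he, by linear_combination q' ^ n * hpq⟩, ?_⟩
        rw [hxy c, hc, TensorProduct.tmul_add]
        congr 1
        rw [mul_comm (p * q') c, map_mul, ← Algebra.smul_def, TensorProduct.smul_tmul]
      · refine ⟨c • m + m', p' * q, q * q', mul_ne_zero hq hq', ⟨e', he', by linear_combination q ^ n * hpq'⟩, ?_⟩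
        rw [hxy c, hc, TensorProduct.tmul_add]
        congr 1
        rw [mul_comm (p' * q) c, map_mul, ← Algebra.smul_def, TensorProduct.smul_tmul]
  obtain ⟨m, p, q, hq, ⟨e, he, hpq⟩, hsm⟩ := hβ s'
  have h1 := congrArg (fun r => Ψ₁ r * (algebraMap A K q ⊗ₜ[A] (1 : M))) hkey
  simp only [hΨb, hΨπ, mul_assoc, hsm, Algebra.TensorProduct.tmul_mul_tmul, one_mul, mul_one] at h1
  have hincl : Function.Injective (fun m : M => (1 : K) ⊗ₜ[A] m) :=
    Algebra.TensorProduct.includeRight_injective (B := M) (IsFractionRing.injective A K)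
  have h2 : algebraMap A M p * (b * m) = algebraMap A M q * Ψ₀ z' := hincl (by
    simp only
    rw [← Algebra.smul_def, ← Algebra.smul_def, TensorProduct.tmul_smul, TensorProduct.tmul_smul,
      TensorProduct.smul_tmul', TensorProduct.smul_tmul', ← Algebra.algebraMap_eq_smul_one,
      ← Algebra.algebraMap_eq_smul_one]
    exact h1)
  have h3 : algebraMap A M e * ((u : M) * m ^ n) * algebraMap A M q ^ n = Ψ₀ z' ^ n * algebraMap A M q ^ n := by
    have h4 := congrArg (· ^ n) h2
    simp only [mul_pow, hb] at h4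
    rw [mul_comm (Ψ₀ z' ^ n), ← h4, ← map_pow, ← map_pow]
    have h5 : algebraMap A M a * algebraMap A M (p ^ n) = algebraMap A M e * algebraMap A M (q ^ n) := by
      rw [← map_mul, ← map_mul, hpq]
    linear_combination (-(u : M) * m ^ n) * h5
  have hq' : algebraMap A M q ^ n ≠ 0 := pow_ne_zero _ fun h => hq (hinj (h.trans (map_zero _).symm))
  have h6 := mul_right_cancel₀ hq' h3
  exact he (IsLocalHom.map_nonunit e (isUnit_of_mul_isUnit_left (h6 ▸ hw0.pow n)))

/-- Weakly étale local extensions of valuation rings are weakly unramified valuation rings. -/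
theorem weaklyEtale_valuationRing (A M : Type u) [CommRing A] [IsDomain A] [ValuationRing A] [CommRing M]
    [IsLocalRing M] [Algebra A M] [IsLocalHom (algebraMap A M)] [Algebra.WeaklyEtale A M] :
    (∃ _ : IsDomain M, ValuationRing M) ∧ Function.Injective (algebraMap A M) ∧
      ∀ b : M, b ≠ 0 → ∃ (a : A) (u : Mˣ), b = u * algebraMap A M a := by
  classical
  haveI : Module.FaithfullyFlat A M := Module.FaithfullyFlat.of_flat_of_isLocalHom
  have hinj : Function.Injective (algebraMap A M) := FaithfulSMul.algebraMap_injective A M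
  have hM : ∀ J : Ideal M, Module.Flat M J := flat_ideal_of_weaklyEtale fun I _ => flat_ideal_valuationRing (A := A) I
  obtain ⟨hd, hv⟩ := valuationRing_localization hM (maximalIdeal M)
  haveI := hd
  haveI := hv
  let e : M ≃ₐ[M] Localization.AtPrime (maximalIdeal M) :=
    IsLocalization.atUnits M (maximalIdeal M).primeCompl fun x hx => not_not.1 hx
  haveI hdom : IsDomain M := e.toMulEquiv.isDomain
  haveI hval : ValuationRing M :=
    Function.Surjective.valuationRing e.symm.toRingEquiv.toRingHom e.symm.surjective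
  refine ⟨⟨hdom, hval⟩, hinj, fun b hb => ?_⟩
  let K := FractionRing A
  let P : ℕ → Prop := fun n => 0 < n ∧
    ∃ p q : A, q ≠ 0 ∧ Associated (b ^ n * algebraMap A M q) (algebraMap A M p)
  have hex : ∃ n, P n := by
    obtain ⟨f, hf, hfb⟩ := GrothLib.WeakEtale.isSepElem_of_weaklyEtale (K := K) ((1 : K) ⊗ₜ[A] b)
    obtain ⟨⟨c, hc⟩, hc'⟩ := IsLocalization.integerNormalization_map_to_map (nonZeroDivisors A) f
    let g := IsLocalization.integerNormalization (nonZeroDivisors A) f
    have hg : g.map (algebraMap A K) = c • f := hc'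
    have hg0 : g ≠ 0 := fun h0 => by
      rw [h0, Polynomial.map_zero] at hg
      rw [← algebraMap_smul K c f, eq_comm, smul_eq_zero] at hg
      exact hg.elim (fun h => nonZeroDivisors.ne_zero hc (IsFractionRing.injective A K (h.trans (map_zero _).symm)))
        hf.ne_zero
    have hgb : Polynomial.aeval b g = 0 :=
      Algebra.TensorProduct.includeRight_injective (B := M) (IsFractionRing.injective A K) (by
        rw [map_zero, ← Polynomial.aeval_algHom_apply, ← Polynomial.aeval_map_algebraMap K,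
          hg, ← algebraMap_smul K c f, map_smul, Algebra.TensorProduct.includeRight_apply, hfb, smul_zero])
    let T := fun i => algebraMap A M (g.coeff i) * b ^ i
    obtain ⟨j, hj, hjdvd⟩ : ∃ j ∈ g.support, ∀ i ∈ g.support, T j ∣ T i := by
      have h : ∀ s : Finset ℕ, s.Nonempty → ∃ j ∈ s, ∀ i ∈ s, T j ∣ T i := by
        intro s hs
        induction hs using Finset.Nonempty.cons_induction with
        | singleton i => exact ⟨i, by simp, by simp⟩
        | cons i s hi hs ih =>
          obtain ⟨j, hj, hjd⟩ := ih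
          rcases ValuationRing.dvd_total (T i) (T j) with h | h
          · refine ⟨i, Finset.mem_cons_self _ _, fun l hl => ?_⟩
            rcases Finset.mem_cons.1 hl with rfl | hl
            · exact dvd_rfl
            · exact h.trans (hjd l hl)
          · refine ⟨j, Finset.mem_cons_of_mem hj, fun l hl => ?_⟩
            rcases Finset.mem_cons.1 hl with rfl | hl
            · exact h
            · exact hjd l hl
      exact h _ (Polynomial.support_nonempty.2 hg0)
    have hTj : T j ≠ 0 := mul_ne_zero (fun h => Polynomial.mem_support_iff.1 hj (hinj (h.trans (map_zero _).symm)))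
      (pow_ne_zero _ hb)
    obtain ⟨i, hi, hij, hassoc⟩ : ∃ i ∈ g.support, i ≠ j ∧ Associated (T i) (T j) := by
      by_contra hne
      push Not at hne
      choose! r hr using hjdvd
      have hsum : T j * ∑ i ∈ g.support, r i = 0 := by
        rw [Finset.mul_sum, ← hgb, Polynomial.aeval_eq_sum_range]
        rw [Finset.sum_congr rfl fun i hi => (hr i hi).symm]
        refine Finset.sum_subset_zero_on_sdiff (fun i hi => Finset.mem_range.2
          (Nat.lt_succ_of_le (Polynomial.le_natDegree_of_mem_supp i hi))) (fun i hi => ?_) (fun i _ => ?_)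
        · rw [Polynomial.notMem_support_iff.1 (Finset.mem_sdiff.1 hi).2, zero_smul]
        · rw [Algebra.smul_def]
      have hrj : r j = 1 := mul_left_cancel₀ hTj (by rw [mul_one]; exact (hr j hj).symm)
      have hunit : IsUnit (∑ i ∈ g.support, r i) := by
        rw [← Finset.sum_erase_add _ _ hj, hrj]
        have hmem : ∑ i ∈ g.support.erase j, r i ∈ maximalIdeal M :=
          Ideal.sum_mem _ fun i hi hu => hne i (Finset.mem_erase.1 hi).2 (Finset.mem_erase.1 hi).1
            (by rw [hr i (Finset.mem_erase.1 hi).2]; exact (associated_mul_unit_right (T j) (r i) hu).symm)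
        refine (IsLocalRing.isUnit_or_isUnit_of_isUnit_add (a := ∑ i ∈ g.support.erase j, r i + 1)
          (b := -∑ i ∈ g.support.erase j, r i) (by simp)).resolve_right fun hu => hmem (by simpa using hu.neg)
      exact hTj ((hunit.mul_left_eq_zero).1 hsum)
    wlog hlt : j < i generalizing i j
    · exact this i hi (hjdvd := fun l hl => (hassoc.dvd).trans (hjdvd l hl)) (hTj := fun h => hTj (by
        simpa [h] using hassoc.symm)) j hj hij.symm hassoc.symm (lt_of_le_of_ne (not_lt.1 hlt) hij)
    refine ⟨i - j, by omega, g.coeff j, g.coeff i, Polynomial.mem_support_iff.1 hi, ?_⟩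
    refine (Associated.of_mul_right ?_ (Associated.refl (b ^ j)) (pow_ne_zero _ hb))
    rw [mul_comm (b ^ (i - j)), mul_assoc, ← pow_add, Nat.sub_add_cancel hlt.le]
    exact hassoc
  let n := Nat.find hex
  obtain ⟨hn0, p, q, hq, hpq⟩ : P n := Nat.find_spec hex
  have hqM : algebraMap A M q ≠ 0 := fun h => hq (hinj (h.trans (map_zero _).symm))
  have hfinish : ∀ a : A, Associated b (algebraMap A M a) → ∃ (a : A) (u : Mˣ), b = u * algebraMap A M a :=
    fun a h => by
      obtain ⟨u, hu⟩ := h.symm
      exact ⟨a, u, by rw [mul_comm, hu]⟩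
  obtain ⟨a, hba⟩ : ∃ a, Associated (b ^ n) (algebraMap A M a) := by
    rcases ValuationRing.dvd_total q p with ⟨a, rfl⟩ | ⟨c, rfl⟩
    · refine ⟨a, Associated.of_mul_right ?_ (Associated.refl (algebraMap A M q)) hqM⟩
      rw [map_mul, mul_comm (algebraMap A M a)] at *
      exact hpq
    · refine ⟨1, ?_⟩
      rw [map_one, associated_one_iff_isUnit]
      obtain ⟨u, hu⟩ := hpq
      have hp : algebraMap A M p ≠ 0 := fun h => hqM (by rw [map_mul, h, zero_mul])
      refine IsUnit.of_mul_eq_one (algebraMap A M c * u) (mul_right_cancel₀ hp ?_)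
      rw [map_mul] at hu
      rw [one_mul]
      linear_combination hu
  by_cases hn1 : n = 1
  · exact hfinish a (by rwa [hn1, pow_one] at hba)
  exfalso
  obtain ⟨u, hu⟩ := hba.symm
  refine false_of_ramified (K := K) hinj (a := a) (fun h0 => ?_) (by omega : 2 ≤ n) (fun k hk hkn p' q' hq' hass => ?_)
    (b := b) (u := u) hu.symm
  · rw [h0, map_zero, zero_mul] at hu
    exact pow_ne_zero _ hb hu.symm
  · refine Nat.find_min hex hkn ⟨hk, p', q', hq', associated_of_pow (by omega : n ≠ 0) ?_⟩
    have h := hass.map (algebraMap A M)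
    rw [map_mul, map_pow, map_pow, map_pow] at h
    rw [mul_pow, ← pow_mul, mul_comm k n, pow_mul]
    exact (((hba.pow_pow (n := k)).mul_right _)).trans h


end GrothLib.WeakDim
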