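import Groth.Agent.Lib.AbsFlat.Basic
import Mathlib.RingTheory.Flat.Localization
import Mathlib.RingTheory.Flat.TorsionFree
import Mathlib.RingTheory.Valuation.ValuationRing
import Mathlib.RingTheory.Valuation.LocalSubring
import Mathlib.RingTheory.LocalRing.Module
import Mathlib.RingTheory.IntegralClosure.IntegrallyClosed
import Mathlib.Algebra.Algebra.Epi
import Mathlib.Algebra.Group.Pi.Units

/-!
# Rings all whose ideals are flat
-/

universe u

open TensorProduct

noncomputable section

namespace GrothLib.WeakDim

/-- Submodules of flat modules are flat when finitely generated ideals are flat. -/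
theorem flat_submodule {A : Type u} [CommRing A] (h : ∀ I : Ideal A, I.FG → Module.Flat A I) {M : Type u}
    [AddCommGroup M] [Module A M] [Module.Flat A M] {N : Type u} [AddCommGroup N] [Module A N]
    (ι : N →ₗ[A] M) (hι : Function.Injective ι) : Module.Flat A N := by
  refine Module.Flat.iff_rTensor_injective.2 fun {I} hI => ?_
  haveI := h I hI
  have h1 : Function.Injective (ι.lTensor I) := Module.Flat.lTensor_preserves_injective_linearMap ι hι
  have h2 : Function.Injective (I.subtype.rTensor M) :=
    Module.Flat.rTensor_preserves_injective_linearMap I.subtype I.subtype_injective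
  have hcomp : (ι.lTensor A).comp (I.subtype.rTensor N) = (I.subtype.rTensor M).comp (ι.lTensor I) := by
    rw [LinearMap.lTensor_comp_rTensor, LinearMap.rTensor_comp_lTensor]
  have h3 : Function.Injective ((I.subtype.rTensor M).comp (ι.lTensor I)) := h2.comp h1
  rw [← hcomp] at h3
  exact Function.Injective.of_comp (f := ι.lTensor A) h3

/-- Over a product of valuation rings every ideal is flat. -/
theorem isBezout_pi {J : Type u} (A : J → Type u) [∀ j, CommRing (A j)] [∀ j, IsDomain (A j)]
    [∀ j, ValuationRing (A j)] : IsBezout (∀ j, A j) := by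
  classical
  refine IsBezout.iff_span_pair_isPrincipal.2 fun x y => ?_
  let r : ∀ i, A i := fun i => if x i ∣ y i then x i else y i
  have hx : ∀ i, r i ∣ x i := fun i => by
    by_cases h : x i ∣ y i
    · simp [r, h]
    · simp only [r, h, if_false]
      exact (ValuationRing.dvd_total (x i) (y i)).resolve_left h
  have hy : ∀ i, r i ∣ y i := fun i => by
    by_cases h : x i ∣ y i
    · simp [r, h]
    · simp [r, h]
  choose c hc using hx
  choose d hd using hy
  refine ⟨⟨r, le_antisymm (Ideal.span_le.2 ?_) ((Submodule.span_singleton_le_iff_mem _ _).2 ?_)⟩⟩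
  · rintro z (rfl | rfl)
    · exact Ideal.mem_span_singleton'.2 ⟨c, funext fun i => by rw [Pi.mul_apply, mul_comm, ← hc]⟩
    · exact Ideal.mem_span_singleton'.2 ⟨d, funext fun i => by rw [Pi.mul_apply, mul_comm, ← hd]⟩
  · refine Ideal.mem_span_pair.2 ⟨fun i => if x i ∣ y i then 1 else 0,
      fun i => if x i ∣ y i then 0 else 1, funext fun i => ?_⟩
    by_cases h : x i ∣ y i <;> simp [r, h]

theorem flat_ideal_pi {J : Type u} (A : J → Type u) [∀ j, CommRing (A j)] [∀ j, IsDomain (A j)]
    [∀ j, ValuationRing (A j)] (I : Ideal (∀ j, A j)) : Module.Flat (∀ j, A j) I := by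
  classical
  refine flat_submodule (fun J' hJ' => ?_) I.subtype I.subtype_injective
  haveI := isBezout_pi A
  obtain ⟨r, rfl⟩ := (IsBezout.isPrincipal_of_FG J' hJ').principal
  let e : ∀ j, A j := fun j => if r j = 0 then 0 else 1
  have he : ∀ j, e j * r j = r j := fun j => by by_cases h : r j = 0 <;> simp [e, h]
  let f : Submodule.span (∀ j, A j) {r} →ₗ[∀ j, A j] (∀ j, A j) :=
    { toFun := fun x j => e j * Classical.choose (Submodule.mem_span_singleton.1 x.2) j
      map_add' := fun x y => funext fun j => by
        have hx := congrFun (Classical.choose_spec (Submodule.mem_span_singleton.1 x.2)) j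
        have hy := congrFun (Classical.choose_spec (Submodule.mem_span_singleton.1 y.2)) j
        have hxy := congrFun (Classical.choose_spec (Submodule.mem_span_singleton.1 (x + y).2)) j
        simp only [smul_eq_mul, Pi.mul_apply, Submodule.coe_add, Pi.add_apply] at hx hy hxy ⊢
        by_cases h : r j = 0
        · simp [e, h]
        · simp only [e, h, if_false, one_mul]
          exact mul_right_cancel₀ h (by rw [add_mul, hx, hy, hxy])
      map_smul' := fun c x => funext fun j => by
        have hx := congrFun (Classical.choose_spec (Submodule.mem_span_singleton.1 x.2)) j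
        have hcx := congrFun (Classical.choose_spec (Submodule.mem_span_singleton.1 (c • x).2)) j
        simp only [smul_eq_mul, Pi.mul_apply, SetLike.val_smul, RingHom.id_apply] at hx hcx ⊢
        by_cases h : r j = 0
        · simp [e, h]
        · simp only [e, h, if_false, one_mul]
          exact mul_right_cancel₀ h (by rw [mul_assoc, hx, hcx]) }
  refine Module.Flat.of_retract f
    (LinearMap.toSpanSingleton _ _ (⟨r, Submodule.mem_span_singleton_self r⟩ : Submodule.span (∀ j, A j) {r})) ?_
  ext x j
  have hx := congrFun (Classical.choose_spec (Submodule.mem_span_singleton.1 x.2)) j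
  simp only [smul_eq_mul, Pi.mul_apply] at hx
  show e j * Classical.choose (Submodule.mem_span_singleton.1 x.2) j * r j = (x : ∀ j, A j) j
  rw [mul_assoc, hx, ← hx, mul_left_comm, he]

theorem isLocalization_pi {J : Type u} (A : J → Type u) [∀ j, CommRing (A j)] [∀ j, IsDomain (A j)]
    (K : J → Type u) [∀ j, Field (K j)] [∀ j, Algebra (A j) (K j)] [∀ j, IsFractionRing (A j) (K j)] :
    IsLocalization (nonZeroDivisors (∀ j, A j)) (∀ j, K j) := by
  classical
  refine ⟨⟨fun s => ?_, fun z => ?_, fun {x y} h => ⟨1, ?_⟩⟩⟩
  · refine Pi.isUnit_iff.2 fun j => IsUnit.mk0 _ fun h0 => ?_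
    have hj : (s : ∀ j, A j) j = 0 := IsFractionRing.injective (A j) (K j) (h0.trans (map_zero _).symm)
    have h1 := (mem_nonZeroDivisors_iff_right.1 s.2) (Pi.single j 1) (funext fun i => by
      by_cases h : i = j
      · subst h; simp [hj]
      · simp [Pi.single_eq_of_ne h])
    simpa using congrFun h1 j
  · choose a b hb hab using fun j => IsFractionRing.div_surjective (A j) (z j)
    refine ⟨⟨a, ⟨b, mem_nonZeroDivisors_iff_right.2 fun x hx => funext fun j =>
      (mem_nonZeroDivisors_iff_right.1 (hb j)) _ (congrFun hx j)⟩⟩, funext fun j => ?_⟩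
    show z j * algebraMap (A j) (K j) (b j) = algebraMap (A j) (K j) (a j)
    rw [← hab j, div_mul_cancel₀]
    exact IsFractionRing.to_map_ne_zero_of_mem_nonZeroDivisors (hb j)
  · simp only [OneMemClass.coe_one, one_mul]
    exact funext fun j => IsFractionRing.injective (A j) (K j) (congrFun h j)

theorem isEpi_of_isLocalization {A : Type u} [CommRing A] (M : Submonoid A) (B : Type u) [CommRing B]
    [Algebra A B] [IsLocalization M B] : Algebra.IsEpi A B := by
  refine (Algebra.isEpi_iff_forall_one_tmul_eq A B).2 fun x => ?_
  obtain ⟨⟨a, s⟩, h⟩ := IsLocalization.surj M x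
  have hu : IsUnit ((1 : B) ⊗ₜ[A] algebraMap A B s) :=
    (IsLocalization.map_units B s).map (Algebra.TensorProduct.includeRight : B →ₐ[A] B ⊗[A] B)
  refine hu.mul_right_cancel ?_
  have hs : ∀ c : A, (1 : B) ⊗ₜ[A] algebraMap A B c = algebraMap A B c ⊗ₜ[A] 1 := fun c => by
    rw [Algebra.algebraMap_eq_smul_one, TensorProduct.tmul_smul, TensorProduct.smul_tmul']
  rw [Algebra.TensorProduct.tmul_mul_tmul, one_mul, h, hs, hs, Algebra.TensorProduct.tmul_mul_tmul, one_mul,
    ← h]

/-- A ring all whose ideals are flat is integrally closed in flat epimorphic extensions. -/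
theorem isIntegrallyClosedIn (A B : Type u) [CommRing A] [CommRing B] [Algebra A B]
    (hA : ∀ I : Ideal A, Module.Flat A I) [Module.Flat A B] [Algebra.IsEpi A B]
    (hinj : Function.Injective (algebraMap A B)) : IsIntegrallyClosedIn A B := by
  refine isIntegrallyClosedIn_iff.2 ⟨hinj, fun {b} hb => ?_⟩
  let C := Algebra.adjoin A {b}
  haveI : Module.Finite A C := Module.Finite.iff_fg.mpr hb.fg_adjoin_singleton
  haveI : Module.Flat A C := flat_submodule (fun I _ => hA I) C.val.toLinearMap Subtype.val_injective
  have hC : Algebra.IsEpi A C := by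
    refine (Algebra.isEpi_iff_forall_one_tmul_eq A C).2 fun c => ?_
    have h1 : Function.Injective (C.val.toLinearMap.lTensor C) :=
      Module.Flat.lTensor_preserves_injective_linearMap _ Subtype.val_injective
    have h2 : Function.Injective (C.val.toLinearMap.rTensor B) :=
      Module.Flat.rTensor_preserves_injective_linearMap _ Subtype.val_injective
    refine h1 (h2 ?_)
    simp only [LinearMap.lTensor_tmul, LinearMap.rTensor_tmul]
    exact (Algebra.isEpi_iff_forall_one_tmul_eq A B).1 ‹_› (c : B)
  obtain ⟨a, ha⟩ := Algebra.isEpi_iff_surjective_algebraMap_of_finite.1 hC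
    (⟨b, Algebra.self_mem_adjoin_singleton A b⟩ : C)
  exact ⟨a, congrArg Subtype.val ha⟩

end GrothLib.WeakDim
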