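import Groth.Agent.Lib.WeakDim.Basic

/-!
# A normal domain as a fibre product
-/

universe u

open TensorProduct

noncomputable section

namespace GrothLib.WeakDim

variable (A K : Type u) [CommRing A] [Field K] [Algebra A K]

/-- Valuation subrings containing the base. -/
abbrev Index : Type u := {V : ValuationSubring K // ∀ a : A, algebraMap A K a ∈ V}

/-- The product of the valuation rings containing the base. -/
abbrev ProdVal : Type u := ∀ V : Index A K, V.1

/-- The base inside the product of valuation rings. -/
def toProdVal : A →+* ProdVal A K :=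
  Pi.ringHom fun V => (algebraMap A K).codRestrict V.1.toSubring V.2

/-- The product of valuation rings inside the product of copies of the field. -/
def prodIncl : ProdVal A K →+* (Index A K → K) :=
  Pi.ringHom fun V => (V.1.toSubring.subtype).comp (Pi.evalRingHom (fun V : Index A K => V.1) V)

theorem prodIncl_injective : Function.Injective (prodIncl A K) := fun x y h =>
  funext fun V => Subtype.ext (congrFun h V :)

theorem prodIncl_flat_epi :
    (prodIncl A K).Flat ∧ (letI := (prodIncl A K).toAlgebra; Algebra.IsEpi (ProdVal A K) (Index A K → K)) := by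
  letI := (prodIncl A K).toAlgebra
  haveI : IsLocalization (nonZeroDivisors (ProdVal A K)) (Index A K → K) := by
    convert isLocalization_pi (fun V : Index A K => V.1) (fun _ => K) using 0
    refine iff_of_eq (congrArg (fun a : Algebra (ProdVal A K) (Index A K → K) =>
      @IsLocalization _ _ (nonZeroDivisors (ProdVal A K)) (Index A K → K) _ a) ?_)
    exact Algebra.algebra_ext _ _ fun x => rfl
  exact ⟨RingHom.flat_algebraMap_iff.2 (IsLocalization.flat _ (nonZeroDivisors (ProdVal A K))),
    isEpi_of_isLocalization (nonZeroDivisors (ProdVal A K)) _⟩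

theorem exists_of_prodIncl_eq [IsDomain A] [IsFractionRing A K] [IsIntegrallyClosed A] (v : ProdVal A K) (k : K)
    (h : prodIncl A K v = fun _ => k) : ∃ a : A, toProdVal A K a = v ∧ algebraMap A K a = k := by
  have hint : IsIntegral (algebraMap A K).range k := by
    by_contra hni
    obtain ⟨V, hV, hk⟩ : ∃ V : ValuationSubring K, (algebraMap A K).range ≤ V.toSubring ∧ k ∉ V := by
      by_contra hne
      push_neg at hne
      refine hni ?_
      haveI : IsIntegrallyClosedIn (integralClosure (algebraMap A K).range K).toSubring K :=
        isIntegrallyClosedIn_iff.2 ⟨Subtype.val_injective, fun {x} hx =>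
          ⟨⟨x, isIntegral_trans (A := integralClosure (algebraMap A K).range K) x hx⟩, rfl⟩⟩
      have hk : k ∈ (integralClosure (algebraMap A K).range K).toSubring := by
        rw [Subring.eq_iInf_of_isIntegrallyClosedIn (R := (integralClosure (algebraMap A K).range K).toSubring),
          Subring.mem_iInf]
        exact fun V => hne V.1 fun x hx => V.2 ((integralClosure (algebraMap A K).range K).algebraMap_mem ⟨x, hx⟩)
      exact hk
    have hkV := congrFun h ⟨V, fun a => hV ⟨a, rfl⟩⟩
    exact hk (hkV ▸ (v ⟨V, fun a => hV ⟨a, rfl⟩⟩).2)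
  obtain ⟨p, hp, hpk⟩ := hint
  have hlift : p.map (algebraMap A K).range.subtype ∈ Polynomial.lifts (algebraMap A K) :=
    (Polynomial.lifts_iff_coeff_lifts _).2 fun n => by rw [Polynomial.coeff_map]; exact (p.coeff n).2
  obtain ⟨q, hq, -, hqm⟩ := Polynomial.lifts_and_degree_eq_and_monic hlift (hp.map _)
  obtain ⟨a, ha⟩ := IsIntegrallyClosed.isIntegral_iff.1 (⟨q, hqm, by
    rw [← Polynomial.eval_map, hq, Polynomial.eval_map]; exact hpk⟩ : IsIntegral A k)
  refine ⟨a, funext fun V => Subtype.ext ?_, ha⟩
  show algebraMap A K a = (v V : K)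
  rw [ha]
  exact (congrFun h V).symm

theorem isLocalization_prodIncl :
    @IsLocalization _ _ (nonZeroDivisors (ProdVal A K)) (Index A K → K) _ (prodIncl A K).toAlgebra := by
  have h := isLocalization_pi (fun V : Index A K => V.1) (fun _ => K)
  letI := (prodIncl A K).toAlgebra
  convert h using 0
  refine iff_of_eq (congrArg (fun a : Algebra (ProdVal A K) (Index A K → K) =>
    @IsLocalization _ _ (nonZeroDivisors (ProdVal A K)) (Index A K → K) _ a) ?_)
  exact Algebra.algebra_ext _ _ fun x => rfl

/-- A normal domain is a fibre product of a ring of weak dimension one and a field over a localization. -/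
theorem exists_square [IsDomain A] [IsFractionRing A K] [IsIntegrallyClosed A] :
    ∃ (W L : Type u) (_ : CommRing W) (_ : CommRing L) (_ : Algebra A W) (_ : Algebra W L) (_ : Algebra A L)
      (_ : IsScalarTower A W L) (M : Submonoid W) (_ : IsLocalization M L) (δ : K →ₐ[A] L),
      (∀ J : Ideal W, Module.Flat W J) ∧ Function.Injective (algebraMap W L) ∧
      ∀ (k : K) (w : W), δ k = algebraMap W L w → ∃ a, algebraMap A K a = k ∧ algebraMap A W a = w := by
  let f := toProdVal A K
  let g := prodIncl A K
  exact ⟨ProdVal A K, Index A K → K, inferInstance, inferInstance, f.toAlgebra, g.toAlgebra,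
    (g.comp f).toAlgebra, @IsScalarTower.of_algebraMap_eq A (ProdVal A K) (Index A K → K) _ _ _ f.toAlgebra g.toAlgebra
      (g.comp f).toAlgebra fun _ => rfl,
    nonZeroDivisors (ProdVal A K), isLocalization_prodIncl A K,
    @AlgHom.mk A K (Index A K → K) _ _ _ _ (g.comp f).toAlgebra (RingHom.pi fun _ => RingHom.id K) (fun _ => rfl),
    flat_ideal_pi _, prodIncl_injective A K, fun k w h => by
      obtain ⟨a, h1, h2⟩ := exists_of_prodIncl_eq A K w k h.symm
      exact ⟨a, h2, h1⟩⟩

end GrothLib.WeakDim
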